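import Groth.Agent.BELib.Minor

/-!
# Charts of determinantal varieties and derivatives of minors
-/

set_option autoImplicit false
-- default transparency
set_option linter.style.haveILetI false

universe u

open MvPolynomial Matrix

namespace Groth.Agent.DetSmoothLib

variable (k : Type u) [Field k] (n m r : ℕ)

/-- The generic matrix. -/
noncomputable abbrev gen : Matrix (Fin n) (Fin m) (MvPolynomial (Fin n × Fin m) k) :=
  Matrix.of fun (i : Fin n) (j : Fin m) => X (i, j)

variable {k n m r}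

theorem pderiv_eq_zero_of_adjoin {σ : Type} (s : Set (MvPolynomial σ k)) (c : σ)
    (hs : ∀ x ∈ s, pderiv c x = 0) {y : MvPolynomial σ k} (hy : y ∈ Algebra.adjoin k s) : pderiv c y = 0 :=
  Derivation.eqOn_adjoin (D2 := 0) hs hy

theorem det_mem_adjoin {σ : Type} {ι : Type} [Fintype ι] [DecidableEq ι] (M : Matrix ι ι (MvPolynomial σ k)) :
    M.det ∈ Algebra.adjoin k (Set.range fun ab : ι × ι => M ab.1 ab.2) := by
  rw [Matrix.det_apply]
  refine Subalgebra.sum_mem _ fun π _ => ?_
  rw [Units.smul_def, zsmul_eq_mul]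
  refine Subalgebra.mul_mem _ (Subalgebra.intCast_mem _ _) (Subalgebra.prod_mem _ fun a _ => ?_)
  exact Algebra.subset_adjoin ⟨(π a, a), rfl⟩

/-- Partial derivatives of `(r+1)`-minors are combinations of `r`-minors. -/
theorem pderiv_minor_mem (f : Fin (r + 1) → Fin n) (g : Fin (r + 1) → Fin m) (c : Fin n × Fin m) :
    pderiv c ((gen k n m).submatrix f g).det ∈ CAlgX.minorIdeal (gen k n m) r := by
  classical
  set M := (gen k n m).submatrix f g with hM
  by_cases hf : Function.Injective f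
  swap
  · obtain ⟨a, b, hab, hne⟩ := Function.not_injective_iff.1 hf
    rw [Matrix.det_zero_of_row_eq hne (by funext d; simp [hM, hab]), map_zero]
    exact zero_mem _
  by_cases hc : ∃ a, f a = c.1
  · obtain ⟨a, ha⟩ := hc
    rw [Matrix.det_eq_sum_mul_adjugate_row M a, map_sum]
    refine Ideal.sum_mem _ fun b _ => ?_
    have hadj : M.adjugate b a ∈ CAlgX.minorIdeal (gen k n m) r := by
      rw [Matrix.adjugate_fin_succ_eq_det_submatrix, hM, Matrix.submatrix_submatrix]
      exact Ideal.mul_mem_left _ _ (BELib.mem_minorIdeal _ _ _)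
    have hd0 : pderiv c (M.adjugate b a) = 0 := by
      rw [Matrix.adjugate_fin_succ_eq_det_submatrix, Derivation.leibniz]
      have h1 : pderiv c (M.submatrix a.succAbove b.succAbove).det = 0 := by
        refine pderiv_eq_zero_of_adjoin _ c ?_ (det_mem_adjoin _)
        rintro _ ⟨⟨p, q⟩, rfl⟩
        refine pderiv_X_of_ne fun he => ?_
        exact Fin.succAbove_ne a p (hf ((congrArg Prod.fst he).trans ha.symm))
      rw [h1, Derivation.leibniz_pow, Derivation.map_neg, Derivation.map_one_eq_zero]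
      simp
    rw [Derivation.leibniz, hd0, smul_zero, zero_add]
    exact Ideal.mul_mem_right _ _ hadj
  · rw [pderiv_eq_zero_of_adjoin _ c ?_ (det_mem_adjoin M)]
    · exact zero_mem _
    rintro _ ⟨⟨p, q⟩, rfl⟩
    exact pderiv_X_of_ne fun he => hc ⟨p, congrArg Prod.fst he⟩

theorem pderiv_mem (P : Ideal (MvPolynomial (Fin n × Fin m) k)) (hP : CAlgX.minorIdeal (gen k n m) r ≤ P)
    {g : MvPolynomial (Fin n × Fin m) k} (hg : g ∈ CAlgX.minorIdeal (gen k n m) (r + 1)) (c : Fin n × Fin m) :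
    pderiv c g ∈ P := by
  have hle : CAlgX.minorIdeal (gen k n m) (r + 1) ≤ P := (BELib.minorIdeal_succ_le _ _).trans hP
  unfold CAlgX.minorIdeal at hg
  induction hg using Submodule.span_induction with
  | mem x hx =>
    obtain ⟨⟨f, g⟩, rfl⟩ := hx
    exact hP (pderiv_minor_mem f g c)
  | zero => simp
  | add a b _ _ ha hb => rw [map_add]; exact add_mem ha hb
  | smul x a hmem ha =>
    rw [smul_eq_mul, Derivation.leibniz]
    exact add_mem (Ideal.mul_mem_left _ _ ha) (Ideal.mul_mem_right _ _ (hle hmem))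

theorem minorIdeal_ne_bot (hn : r + 1 ≤ n) (hm : r + 1 ≤ m) : CAlgX.minorIdeal (gen k n m) (r + 1) ≠ ⊥ := by
  intro h
  have hmem := BELib.mem_minorIdeal (gen k n m) (Fin.castLE hn) (Fin.castLE hm)
  rw [h, Ideal.mem_bot] at hmem
  have := congrArg (eval fun p : Fin n × Fin m => if (p.1 : ℕ) = p.2 then (1 : k) else 0) hmem
  rw [RingHom.map_det, map_zero] at this
  refine one_ne_zero (α := k) ?_
  rw [← Matrix.det_one (n := Fin (r + 1))]
  refine Eq.trans ?_ this
  congr 1
  ext a b
  simp [Matrix.one_apply, Fin.ext_iff]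

section chart

variable (f : Fin r → Fin n) (g : Fin r → Fin m)

/-- The coordinates of the chart. -/
abbrev Coord : Type := {p : Fin n × Fin m // (∃ a, f a = p.1) ∨ ∃ b, g b = p.2}

/-- The minor of the chart. -/
noncomputable def chartMinor : Matrix (Fin r) (Fin r) (MvPolynomial (Coord f g) k) :=
  Matrix.of fun a b => X ⟨(f a, g b), Or.inl ⟨a, rfl⟩⟩

theorem formallySmooth_chart (J : Ideal (MvPolynomial (Fin n × Fin m) k))
    (hJ : J = CAlgX.minorIdeal (gen k n m) (r + 1)) (δ₀ : MvPolynomial (Fin n × Fin m) k)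
    (hδ₀ : δ₀ = ((gen k n m).submatrix f g).det) :
    Algebra.FormallySmooth k (Localization.Away (Ideal.Quotient.mk J δ₀)) := by
  classical
  obtain ⟨d, hd⟩ : ∃ d, d = (chartMinor (k := k) f g).det := ⟨_, rfl⟩
  let δ := Ideal.Quotient.mk J δ₀
  let B' := Localization.Away δ
  let C := Localization.Away d
  let ι : MvPolynomial (Coord f g) k →ₐ[k] C := IsScalarTower.toAlgHom k _ C
  let A0 : Matrix (Fin r) (Fin r) C := (chartMinor f g).map ι
  have hA0 : IsUnit A0.det := by
    show IsUnit ((chartMinor f g).map ι.toRingHom).det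
    rw [← RingHom.mapMatrix_apply, ← RingHom.map_det, ← hd]
    exact IsLocalization.Away.algebraMap_isUnit d
  let U : Matrix (Fin n) (Fin r) C := Matrix.of fun i b => ι (X ⟨(i, g b), Or.inr ⟨b, rfl⟩⟩)
  let V : Matrix (Fin r) (Fin m) C := Matrix.of fun a j => ι (X ⟨(f a, j), Or.inl ⟨a, rfl⟩⟩)
  let W : Matrix (Fin n) (Fin m) C := U * A0⁻¹ * V
  have hrow : ∀ a j, W (f a) j = ι (X ⟨(f a, j), Or.inl ⟨a, rfl⟩⟩) := fun a j => by
    show ((U * A0⁻¹ * V).submatrix f id) a j = _
    rw [Matrix.submatrix_mul _ _ f id id Function.bijective_id, Matrix.submatrix_mul _ _ f id id Function.bijective_id,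
      show U.submatrix f id = A0 from rfl, Matrix.submatrix_id_id, Matrix.submatrix_id_id,
      Matrix.mul_nonsing_inv _ hA0, Matrix.one_mul]
    rfl
  have hcol : ∀ i b, W i (g b) = ι (X ⟨(i, g b), Or.inr ⟨b, rfl⟩⟩) := fun i b => by
    show ((U * A0⁻¹ * V).submatrix id g) i b = _
    rw [Matrix.submatrix_mul _ _ id id g Function.bijective_id, show V.submatrix id g = A0 from rfl,
      Matrix.submatrix_id_id, Matrix.mul_assoc, Matrix.nonsing_inv_mul _ hA0, Matrix.mul_one]
    rfl
  let φ₀ : MvPolynomial (Fin n × Fin m) k →ₐ[k] C := aeval fun p => W p.1 p.2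
  have hφ₀ : (gen k n m).map φ₀.toRingHom = W := by
    ext i j
    simp [φ₀, gen]
  have hker : ∀ x ∈ J, φ₀ x = 0 := fun x hx => by
    rw [hJ] at hx
    have := Ideal.mem_map_of_mem φ₀.toRingHom hx
    rw [← BELib.minorIdeal_map, hφ₀, BELib.minorIdeal_mul_eq_bot _ _ (by simp)] at this
    exact this
  let φ₁ : (MvPolynomial (Fin n × Fin m) k ⧸ J) →ₐ[k] C := Ideal.Quotient.liftₐ _ φ₀ hker
  have hunit : IsUnit (φ₁ δ) := by
    show IsUnit (φ₀.toRingHom δ₀)
    rw [hδ₀, RingHom.map_det, RingHom.mapMatrix_apply, ← Matrix.submatrix_map, hφ₀]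
    rw [show W.submatrix f g = A0 from Matrix.ext fun a b => (hrow a (g b)).trans rfl]
    exact hA0
  let φ : B' →ₐ[k] C := IsLocalization.liftAlgHom (M := Submonoid.powers δ) (f := φ₁) (fun y => by
    obtain ⟨e, he⟩ := y.2
    rw [← he, map_pow]
    exact hunit.pow e)
  let π : MvPolynomial (Fin n × Fin m) k →ₐ[k] B' :=
    (IsScalarTower.toAlgHom k _ B').comp (Ideal.Quotient.mkₐ k (J))
  let ψ₀ : MvPolynomial (Coord f g) k →ₐ[k] B' := π.comp (rename Subtype.val)
  have hψu : IsUnit (ψ₀ d) := by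
    show IsUnit (ψ₀.toRingHom d)
    rw [hd, RingHom.map_det, RingHom.mapMatrix_apply,
      show (chartMinor f g).map ψ₀.toRingHom = ((gen k n m).submatrix f g).map π.toRingHom from Matrix.ext fun a b => by
        simp [ψ₀, chartMinor, gen],
      ← RingHom.mapMatrix_apply, ← RingHom.map_det, ← hδ₀]
    exact IsLocalization.Away.algebraMap_isUnit δ
  let ψ : C →ₐ[k] B' := IsLocalization.liftAlgHom (M := Submonoid.powers d) (f := ψ₀) (fun y => by
    obtain ⟨e, he⟩ := y.2
    rw [← he, map_pow]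
    exact hψu.pow e)
  have hψι : ∀ z, ψ (ι z) = ψ₀ z := fun z => IsLocalization.lift_eq _ z
  have hφπ : ∀ z, φ (π z) = φ₀ z := fun z => IsLocalization.lift_eq _ _
  have h1 : φ.comp ψ = AlgHom.id k C := by
    refine IsLocalization.algHom_ext (Submonoid.powers d) (MvPolynomial.algHom_ext fun s => ?_)
    show φ (ψ (ι (X s))) = ι (X s)
    rw [hψι, show ψ₀ (X s) = π (X s.1) from by simp [ψ₀], hφπ, show φ₀ (X s.1) = W s.1.1 s.1.2 from aeval_X _ _]
    obtain ⟨⟨i, j⟩, ⟨a, ha⟩ | ⟨b, hb⟩⟩ := s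
    · obtain rfl : f a = i := ha
      exact hrow a j
    · obtain rfl : g b = j := hb
      exact hcol i b
  let D : Matrix (Fin n) (Fin m) B' := (gen k n m).map π.toRingHom
  have hD : D = D.submatrix id g * (D.submatrix f g)⁻¹ * D.submatrix f id := by
    refine BELib.eq_mul_of_unit_minor D ?_ f g ?_
    · rw [BELib.minorIdeal_map, eq_bot_iff, Ideal.map_le_iff_le_comap]
      intro x hx
      rw [← hJ] at hx
      show algebraMap _ B' (Ideal.Quotient.mk J x) ∈ (⊥ : Ideal B')
      rw [Ideal.Quotient.eq_zero_iff_mem.2 hx, map_zero]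
      exact zero_mem _
    · rw [Matrix.submatrix_map, ← RingHom.mapMatrix_apply, ← RingHom.map_det, ← hδ₀]
      exact IsLocalization.Away.algebraMap_isUnit δ
  have hWψ : W.map ψ.toRingHom = D := by
    have e1 : U.map ψ.toRingHom = D.submatrix id g := Matrix.ext fun i b => by
      show ψ (ι _) = _
      rw [hψι]; simp [ψ₀, D, gen]
    have e2 : V.map ψ.toRingHom = D.submatrix f id := Matrix.ext fun a j => by
      show ψ (ι _) = _
      rw [hψι]; simp [ψ₀, D, gen]
    have e3 : A0.map ψ.toRingHom = D.submatrix f g := Matrix.ext fun a b => by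
      show ψ (ι _) = _
      rw [hψι]; simp [ψ₀, D, gen, chartMinor]
    have e4 : D.submatrix f g * (A0⁻¹).map ψ.toRingHom = 1 := by
      rw [← e3, ← Matrix.map_mul, Matrix.mul_nonsing_inv _ hA0, Matrix.map_one _ (map_zero _) (map_one _)]
    rw [Matrix.map_mul, Matrix.map_mul, e1, e2, ← Matrix.inv_eq_right_inv e4, ← hD]
  have h2 : ψ.comp φ = AlgHom.id k B' := by
    refine IsLocalization.algHom_ext (Submonoid.powers δ) (Ideal.Quotient.algHom_ext k (MvPolynomial.algHom_ext fun p => ?_))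
    show ψ (φ (π (X p))) = π (X p)
    rw [hφπ, show φ₀ (X p) = W p.1 p.2 from aeval_X _ _]
    exact congrFun (congrFun hWψ p.1) p.2
  haveI : Algebra.FormallySmooth (MvPolynomial (Coord f g) k) C := .of_isLocalization (Submonoid.powers d)
  haveI : Algebra.FormallySmooth k C := .comp k (MvPolynomial (Coord f g) k) C
  exact (Algebra.FormallySmooth.iff_of_equiv (AlgEquiv.ofAlgHom ψ φ h2 h1)).1 inferInstance

end chart

end Groth.Agent.DetSmoothLib
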