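import Mathlib

/-!
# Points where all partial derivatives of the equations vanish
-/

set_option autoImplicit false
-- default transparency
set_option linter.style.haveILetI false

universe u

open MvPolynomial TensorProduct IsLocalRing KaehlerDifferential

namespace Groth.Agent.DetSmoothLib

variable {k : Type u} [Field k] {σ : Type} [Finite σ]

set_option backward.isDefEq.respectTransparency true in
theorem D_mem_smul (Q : Ideal (MvPolynomial σ k)) (g : MvPolynomial σ k) (h : ∀ i, pderiv i g ∈ Q) :
    D k (MvPolynomial σ k) g ∈ Q • (⊤ : Submodule (MvPolynomial σ k) Ω[MvPolynomial σ k⁄k]) := by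
  classical
  let := Fintype.ofFinite σ
  have e := (mvPolynomialBasis k σ).sum_repr (D k (MvPolynomial σ k) g)
  rw [← e]
  refine Submodule.sum_mem _ fun i _ => Submodule.smul_mem_smul ?_ Submodule.mem_top
  rw [mvPolynomialBasis_repr_apply]
  exact h i

theorem not_isSmoothAt (I : Ideal (MvPolynomial σ k)) (hI : I ≠ ⊥) (P : Ideal (MvPolynomial σ k ⧸ I)) [P.IsPrime]
    (h : ∀ g ∈ I, ∀ i, Ideal.Quotient.mk I (pderiv i g) ∈ P) : ¬ Algebra.IsSmoothAt k P := by
  intro hsm
  let Q := P.comap (Ideal.Quotient.mk I)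
  let R' := Localization.AtPrime Q
  let A := Localization.AtPrime P
  let θ : R' →+* A := Localization.localRingHom Q P (Ideal.Quotient.mk I) rfl
  letI : Algebra R' A := θ.toAlgebra
  haveI : IsScalarTower k R' A := IsScalarTower.of_algebraMap_eq fun c => by
    show _ = θ _
    rw [IsScalarTower.algebraMap_apply k (MvPolynomial σ k) R', Localization.localRingHom_to_map,
      ← Ideal.Quotient.algebraMap_eq, ← IsScalarTower.algebraMap_apply, ← IsScalarTower.algebraMap_apply]
  have hsurj : Function.Surjective (algebraMap R' A) :=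
    RingHom.surjective_localRingHom_of_surjective _ Ideal.Quotient.mk_surjective P
  haveI : Algebra.FormallySmooth (MvPolynomial σ k) R' := .of_isLocalization Q.primeCompl
  haveI : Algebra.FormallySmooth k R' := .comp k (MvPolynomial σ k) R'
  obtain ⟨l, hl⟩ := (Algebra.FormallySmooth.iff_split_injection (R := k) hsurj).1 hsm
  let J := RingHom.ker (algebraMap R' A)
  have hQ : ∀ x ∈ Q, algebraMap _ R' x ∈ maximalIdeal R' := fun x hx =>
    (IsLocalization.AtPrime.to_map_mem_maximal_iff R' Q x).2 hx
  have hJQ : ∀ x ∈ J, x ∈ maximalIdeal R' := fun x hx => (mem_maximalIdeal _).2 fun hu =>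
    not_isUnit_zero (M₀ := A) (by have := hu.map (algebraMap R' A); rwa [hx] at this)
  -- the kernel is generated by `I`
  have hJI : J ≤ I.map (algebraMap (MvPolynomial σ k) R') := by
    intro x hx
    obtain ⟨a, s, rfl⟩ := IsLocalization.exists_mk'_eq Q.primeCompl x
    have h0 : algebraMap (MvPolynomial σ k ⧸ I) A (Ideal.Quotient.mk I a) = 0 := by
      have : θ (IsLocalization.mk' R' a s * algebraMap _ R' (s : MvPolynomial σ k)) = 0 := by
        rw [map_mul, show θ (IsLocalization.mk' R' a s) = 0 from hx, zero_mul]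
      rwa [IsLocalization.mk'_spec, Localization.localRingHom_to_map] at this
    obtain ⟨⟨t, ht⟩, htz⟩ := (IsLocalization.map_eq_zero_iff P.primeCompl A _).1 h0
    obtain ⟨t', rfl⟩ := Ideal.Quotient.mk_surjective t
    rw [← map_mul, Ideal.Quotient.eq_zero_iff_mem] at htz
    rw [← Ideal.unit_mul_mem_iff_mem _ (IsLocalization.map_units R' (⟨t', ht⟩ : Q.primeCompl)),
      IsLocalization.mul_mk'_eq_mk'_of_mul, IsLocalization.mk'_eq_mul_mk'_one]
    exact Ideal.mul_mem_right _ _ (Ideal.mem_map_of_mem _ htz)
  -- differentials of the kernel vanish at the point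
  have hker : ∀ x ∈ I.map (algebraMap (MvPolynomial σ k) R'),
      (1 : A) ⊗ₜ[R'] D k R' x ∈ maximalIdeal R' • (⊤ : Submodule R' (A ⊗[R'] Ω[R'⁄k])) ∧ θ x = 0 := by
    intro x hx
    induction hx using Submodule.span_induction with
    | mem x hx =>
      obtain ⟨g, hg, rfl⟩ := hx
      refine ⟨?_, ?_⟩
      · rw [← KaehlerDifferential.map_D k k (MvPolynomial σ k) R']
        have hmap : ∀ z ∈ Q • (⊤ : Submodule (MvPolynomial σ k) Ω[MvPolynomial σ k⁄k]),
            (1 : A) ⊗ₜ[R'] KaehlerDifferential.map k k (MvPolynomial σ k) R' z ∈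
              maximalIdeal R' • (⊤ : Submodule R' (A ⊗[R'] Ω[R'⁄k])) := by
          intro z hz
          refine Submodule.smul_induction_on hz (fun c hc w _ => ?_) (fun a b ha hb => ?_)
          · rw [map_smul, ← IsScalarTower.algebraMap_smul R' c, tmul_smul]
            exact Submodule.smul_mem_smul (hQ c hc) Submodule.mem_top
          · rw [map_add, tmul_add]; exact add_mem ha hb
        exact hmap _ (D_mem_smul Q g (h g hg))
      · rw [Localization.localRingHom_to_map, Ideal.Quotient.eq_zero_iff_mem.2 hg, map_zero]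
    | zero => simp
    | add a b _ _ ha hb =>
      exact ⟨by rw [map_add, tmul_add]; exact add_mem ha.1 hb.1, by rw [map_add, ha.2, hb.2, add_zero]⟩
    | smul c a _ ha =>
      refine ⟨?_, by rw [smul_eq_mul, map_mul, ha.2, mul_zero]⟩
      rw [smul_eq_mul, Derivation.leibniz, tmul_add, tmul_smul, ← smul_tmul,
        show a • (1 : A) = 0 from by rw [Algebra.smul_def, mul_one]; exact ha.2, zero_tmul, add_zero]
      exact Submodule.smul_mem _ _ ha.1
  have htop : (⊤ : Submodule R' J.Cotangent) ≤ maximalIdeal R' • ⊤ := by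
    intro y _
    obtain ⟨⟨x, hx⟩, rfl⟩ := J.toCotangent_surjective y
    have h1 : l (kerCotangentToTensor k R' A (J.toCotangent ⟨x, hx⟩)) = J.toCotangent ⟨x, hx⟩ :=
      LinearMap.congr_fun hl _
    rw [← h1, kerCotangentToTensor_toCotangent]
    have h2 := Submodule.mem_map_of_mem (f := l) (hker x (hJI hx)).1
    rw [Submodule.map_smul''] at h2
    exact Submodule.smul_mono le_rfl le_top h2
  haveI : IsNoetherianRing R' := IsLocalization.isNoetherianRing Q.primeCompl R' inferInstance
  haveI : Module.Finite R' J := Module.Finite.iff_fg.2 (IsNoetherian.noetherian J)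
  haveI : Module.Finite R' J.Cotangent := Module.Finite.of_surjective J.toCotangent J.toCotangent_surjective
  have hbot : (⊤ : Submodule R' J.Cotangent) = ⊥ := Submodule.eq_bot_of_le_smul_of_le_jacobson_bot
    (maximalIdeal R') _ Module.Finite.fg_top htop (maximalIdeal_le_jacobson ⊥)
  have hJ2 : J ≤ J • J := fun x hx => by
    have : J.toCotangent ⟨x, hx⟩ = 0 := by
      have := (Submodule.mem_bot R').1 (hbot ▸ Submodule.mem_top : J.toCotangent ⟨x, hx⟩ ∈ (⊥ : Submodule R' J.Cotangent))
      exact this
    rw [Ideal.toCotangent_eq_zero, pow_two] at this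
    exact this
  have hJbot : J = ⊥ := Submodule.eq_bot_of_le_smul_of_le_jacobson_bot J J (IsNoetherian.noetherian J) hJ2
    (le_trans (fun x hx => hJQ x hx) (maximalIdeal_le_jacobson ⊥))
  obtain ⟨g, hg, hg0⟩ := Submodule.exists_mem_ne_zero_of_ne_bot hI
  have hmem : algebraMap (MvPolynomial σ k) R' g ∈ J := (hker _ (Ideal.mem_map_of_mem _ hg)).2
  rw [hJbot, Ideal.mem_bot] at hmem
  exact hg0 (IsLocalization.injective R' Q.primeCompl_le_nonZeroDivisors (by rw [hmem, map_zero]))

end Groth.Agent.DetSmoothLib
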